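import Mathlib
import Groth.Prelude.Def_CAlg
import Groth.Agent.Alg6.AssDepth

/-!
Kollár's tetrachotomy for Noetherian local rings: a modification exists when depth ≤ 1.
-/

universe u

namespace Groth.Agent.Kollar

open IsLocalRing Submodule

variable {R : Type u} [CommRing R]

/-- If a finitely generated submodule containing a unit is stable under `t`, then `t` is integral. -/
theorem isIntegral_of_stable {L : Type*} [CommRing L] [Algebra R L] (N : Submodule R L) (hN : N.FG)
    {u : L} (hu : IsUnit u) (huN : u ∈ N) {t : L} (ht : ∀ n ∈ N, t * n ∈ N) :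
    IsIntegral R t := by
  let A' : Subalgebra R L :=
    { carrier := { x | ∀ n ∈ N, x * n ∈ N }
      mul_mem' := fun {a b} ha hb n hn => (mul_assoc a b n).symm ▸ ha _ (hb _ hn)
      one_mem' := fun n hn => (one_mul n).symm ▸ hn
      add_mem' := fun {a b} ha hb n hn => (add_mul a b n).symm ▸ N.add_mem (ha _ hn) (hb _ hn)
      zero_mem' := fun n _ => (zero_mul n).symm ▸ N.zero_mem
      algebraMap_mem' := fun r n hn => by rw [← Algebra.smul_def]; exact N.smul_mem r hn }
  let f : A' →ₐ[R] Module.End R N :=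
    AlgHom.ofLinearMap
      { toFun := fun a => (LinearMap.mulLeft R (a : L)).restrict a.2
        map_add' := fun a b => LinearMap.ext fun n => Subtype.ext (add_mul (a : L) b n)
        map_smul' := fun r a => LinearMap.ext fun n => Subtype.ext (smul_mul_assoc r (a : L) n) }
      (LinearMap.ext fun n => Subtype.ext (one_mul (n : L)))
      (fun a b => LinearMap.ext fun n => Subtype.ext (mul_assoc (a : L) b n))
  have hf : Function.Injective f := fun a b h => Subtype.ext (hu.mul_right_cancel
    (congrArg Subtype.val (LinearMap.congr_fun h ⟨u, huN⟩)))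
  have : Module.Finite R N := Module.Finite.iff_fg.2 hN
  have h1 : IsIntegral R (f ⟨t, ht⟩) := Algebra.IsIntegral.isIntegral _
  have h2 : IsIntegral R (⟨t, ht⟩ : A') := (isIntegral_algHom_iff (A := A') (B := Module.End R N) f hf).1 h1
  exact h2.map A'.val

variable [IsLocalRing R] [IsNoetherianRing R]

/-- A local ring whose maximal ideal is generated by a regular element is regular of dimension one. -/
theorem regular_dim_one {a : R} (ha : maximalIdeal R = Ideal.span {a}) (h1 : ¬ IsArtinianRing R) :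
    IsRegularLocalRing R ∧ ringKrullDim R = 1 := by
  have hs : (maximalIdeal R).spanFinrank ≤ 1 := by
    rw [ha]
    exact (Submodule.spanFinrank_span_le_ncard_of_finite (Set.finite_singleton a)).trans (by simp)
  have hle : ringKrullDim R ≤ 1 := by
    exact (ringKrullDim_le_spanFinrank_maximalIdeal R).trans (by exact_mod_cast hs)
  have hge : (1 : WithBot ℕ∞) ≤ ringKrullDim R := by
    by_contra hlt
    refine h1 (isArtinianRing_iff_krullDimLE_zero.2 ?_)
    rw [Ring.KrullDimLE, Order.krullDimLE_iff]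
    have h0 : ringKrullDim R < 1 := lt_of_not_ge hlt
    rcases hd : ringKrullDim R with _ | d
    · exact le_of_eq_of_le hd bot_le
    · change Order.krullDim _ ≤ _
      rw [← ringKrullDim, hd]
      rw [hd] at h0
      have : d < 1 := WithBot.coe_lt_coe.1 h0
      rw [Order.lt_one_iff] at this
      subst this
      exact le_rfl
  have hdim := le_antisymm hle hge
  refine ⟨?_, hdim⟩
  rw [isRegularLocalRing_iff, hdim]
  have : (1 : WithBot ℕ∞) ≤ ((maximalIdeal R).spanFinrank : ℕ) := by
    rw [← hdim]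
    exact ringKrullDim_le_spanFinrank_maximalIdeal R
  have : 1 ≤ (maximalIdeal R).spanFinrank := by exact_mod_cast this
  norm_cast
  omega

theorem exists_modification (h1 : ¬ IsArtinianRing R)
    (h2 : ¬ (IsRegularLocalRing R ∧ ringKrullDim R = 1)) (h3 : LocCoh.depth R R ≤ 1) :
    ∃ (R' : Type u) (_ : CommRing R') (_ : Algebra R R'), Nontrivial R' ∧ Module.Finite R R' ∧
      ¬ Function.Bijective (algebraMap R R') ∧
      (∃ n : ℕ, (∀ x : R, algebraMap R R' x = 0 → ∀ a ∈ maximalIdeal R ^ n, a * x = 0) ∧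
        (∀ y : R', ∀ a ∈ maximalIdeal R ^ n, a • y ∈ Set.range (algebraMap R R'))) ∧
      maximalIdeal R ∉ associatedPrimes R R' := by
  by_cases hass : maximalIdeal R ∈ associatedPrimes R R
  · let m := maximalIdeal R
    let N : ℕ → Ideal R := fun n => (⊥ : Ideal R).colon ((m ^ n : Ideal R) : Set R)
    have hmem : ∀ n z, z ∈ N n ↔ ∀ a ∈ m ^ n, z * a = 0 := fun n z => by
      simp [N, Submodule.mem_annihilator]
    have hmono : Monotone N := fun i j hij z hz => (hmem j z).2 fun a ha =>
      (hmem i z).1 hz a (Ideal.pow_le_pow_right hij ha)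
    obtain ⟨n, hn⟩ := monotone_stabilizes_iff_noetherian.2 inferInstance ⟨N, hmono⟩
    refine ⟨R ⧸ N (n + 1), inferInstance, inferInstance, ?_, inferInstance, ?_,
      ⟨n + 1, ?_, ?_⟩, ?_⟩
    · refine Ideal.Quotient.nontrivial_iff.2 fun htop => h1 ?_
      rw [isArtinianRing_iff_isNilpotent_maximalIdeal]
      refine ⟨n + 1, (Submodule.eq_bot_iff _).2 fun a ha => ?_⟩
      simpa using (hmem (n + 1) 1).1 (htop ▸ Submodule.mem_top) a ha
    · intro hb
      obtain ⟨hp, z, hz⟩ := Alg6.mem_ass_iff.1 hass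
      have hzN : z ∈ N (n + 1) := (hmem _ z).2 fun a ha => by
        have := (hz a).1 (Ideal.pow_le_self n.succ_ne_zero ha)
        rwa [mul_comm]
      have hz0 : z = 0 := hb.1 (by
        rw [map_zero]; exact Ideal.Quotient.eq_zero_iff_mem.2 hzN)
      exact hp.ne_top (Ideal.eq_top_of_isUnit_mem _ ((hz 1).2 (by simp [hz0])) isUnit_one)
    · intro x hx a ha
      rw [mul_comm]
      exact (hmem _ x).1 (Ideal.Quotient.eq_zero_iff_mem.1 hx) a ha
    · intro y a _
      obtain ⟨y, rfl⟩ := Ideal.Quotient.mk_surjective y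
      exact ⟨a * y, rfl⟩
    · intro hq
      obtain ⟨hp, zb, hz⟩ := Alg6.mem_ass_iff.1 hq
      obtain ⟨z, rfl⟩ := Ideal.Quotient.mk_surjective zb
      have hz2 : z ∈ N (n + 2) := (hmem _ z).2 fun a ha => by
        rw [pow_succ'] at ha
        refine Submodule.mul_induction_on ha (fun b hb c hc => ?_)
          (fun p q hp hq => by rw [mul_add, hp, hq, add_zero])
        have : b * z ∈ N (n + 1) := Ideal.Quotient.eq_zero_iff_mem.1 ((hz b).1 hb)
        rw [← mul_assoc, mul_comm z b]
        exact (hmem _ _).1 this c hc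
      have heq : N (n + 1) = N (n + 2) := (hn (n + 1) (by omega)).symm.trans (hn (n + 2) (by omega))
      exact hp.ne_top (Ideal.eq_top_of_isUnit_mem _ ((hz 1).2 (by
        rw [one_smul]; exact Ideal.Quotient.eq_zero_iff_mem.2 (heq ▸ hz2))) isUnit_one)
  obtain ⟨x, hx, hreg⟩ := (Alg6.exists_isSMulRegular_mem_iff (M := R) (maximalIdeal R)).2
    (fun p hp hle => hass (by
      rwa [(maximalIdeal.isMaximal R).eq_of_le (IsAssociatedPrime.isPrime hp).ne_top hle]))
  have hq : maximalIdeal R ∈ associatedPrimes R (QuotSMulTop x R) := by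
    by_contra h
    have h4 := le_trans ((Alg6.two_le_depth_iff hx hreg).2 h) h3
    exact absurd h4 (by decide)
  obtain ⟨hp, yb, hy⟩ := Alg6.mem_ass_iff.1 hq
  obtain ⟨y, rfl⟩ := Submodule.Quotient.mk_surjective _ yb
  have hy' : ∀ a, a ∈ maximalIdeal R ↔ ∃ w, x * w = a * y := fun a => by
    rw [hy a, ← Submodule.Quotient.mk_smul, Alg6.mem_pointwise_smul_top_iff]
    rfl
  have hx0 : ∀ r, x * r = 0 → r = 0 := fun r hr =>
    (isSMulRegular_iff_right_eq_zero_of_smul.1 hreg) r hr
  have hnu : ∀ a ∈ maximalIdeal R, ∀ w, x * w = a * y → w ∈ maximalIdeal R := by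
    intro a ha w hw
    by_contra hwu
    obtain ⟨v, hv⟩ : IsUnit w := by simpa using hwu
    refine h2 (regular_dim_one (a := a) ?_ h1)
    refine le_antisymm (fun b hb => ?_) ((Ideal.span_singleton_le_iff_mem _).2 ha)
    obtain ⟨w', hw'⟩ := (hy' b).1 hb
    rw [Ideal.mem_span_singleton]
    refine ⟨w' * (↑v⁻¹ : R), sub_eq_zero.1 (hx0 _ ?_)⟩
    have hvv : w * (↑v⁻¹ : R) = 1 := by rw [← hv]; exact v.mul_inv
    have hx' : x = a * y * (↑v⁻¹ : R) := by rw [← hw, mul_assoc, hvv, mul_one]
    linear_combination b * hx' - (a * (↑v⁻¹ : R)) * hw'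
  let L := Localization.Away x
  let t : L := algebraMap R L y * IsLocalization.Away.invSelf x
  have hxu : IsUnit (algebraMap R L x) := IsLocalization.Away.algebraMap_isUnit x
  have hinj : Function.Injective (algebraMap R L) := IsLocalization.injective L (M := Submonoid.powers x) (by
    rintro _ ⟨k, rfl⟩
    exact (mem_nonZeroDivisors_iff_right.2 fun r hr => hx0 r (by rw [mul_comm]; exact hr) : x ∈ nonZeroDivisors R) |> (pow_mem · k))
  have ht : ∀ a ∈ maximalIdeal R, ∃ w ∈ maximalIdeal R, t * algebraMap R L a = algebraMap R L w := by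
    intro a ha
    obtain ⟨w, hw⟩ := (hy' a).1 ha
    refine ⟨w, hnu a ha w hw, ?_⟩
    have h := congrArg (algebraMap R L) hw
    rw [map_mul, map_mul] at h
    have h' : algebraMap R L x * IsLocalization.Away.invSelf x = 1 :=
      IsLocalization.Away.mul_invSelf x
    linear_combination algebraMap R L w * h' - IsLocalization.Away.invSelf x * h
  let N : Submodule R L := Submodule.map (Algebra.linearMap R L) (maximalIdeal R)
  have hint : IsIntegral R t := isIntegral_of_stable N ((IsNoetherian.noetherian _).map _) hxu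
    ⟨x, hx, rfl⟩ (by
      rintro _ ⟨a, ha, rfl⟩
      obtain ⟨w, hw, h⟩ := ht a ha
      exact ⟨w, hw, h.symm⟩)
  let S := Algebra.adjoin R {t}
  have hsub : ∀ z ∈ S, ∀ a ∈ maximalIdeal R, ∃ w ∈ maximalIdeal R,
      z * algebraMap R L a = algebraMap R L w := by
    intro z hz
    refine Algebra.adjoin_induction ?_ ?_ ?_ ?_ hz
    · rintro _ rfl; exact ht
    · exact fun r a ha => ⟨r * a, Ideal.mul_mem_left _ r ha, (map_mul _ _ _).symm⟩
    · intro p q _ _ hp hq a ha
      obtain ⟨w, hw, h⟩ := hp a ha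
      obtain ⟨w', hw', h'⟩ := hq a ha
      exact ⟨w + w', add_mem hw hw', by rw [add_mul, h, h', map_add]⟩
    · intro p q _ _ hp hq a ha
      obtain ⟨w, hw, h⟩ := hq a ha
      obtain ⟨w', hw', h'⟩ := hp w hw
      exact ⟨w', hw', by rw [mul_assoc, h, h']⟩
  refine ⟨S, inferInstance, inferInstance, ?_, Module.Finite.iff_fg.2 hint.fg_adjoin_singleton, ?_,
    ⟨1, ?_, ?_⟩, ?_⟩
  · have : Nontrivial L := ⟨⟨0, 1, fun h => zero_ne_one (hinj (by rw [map_zero, map_one, h]))⟩⟩
    infer_instance
  · intro hb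
    obtain ⟨r, hr⟩ := hb.2 ⟨t, Algebra.self_mem_adjoin_singleton R t⟩
    have hr' : algebraMap R L r = t := congrArg Subtype.val hr
    have hxy : x * r = 1 * y := hinj (by
      rw [one_mul, map_mul, hr']
      show algebraMap R L x * (algebraMap R L y * IsLocalization.Away.invSelf x) = algebraMap R L y
      rw [mul_left_comm, IsLocalization.Away.mul_invSelf, mul_one])
    exact hp.ne_top (Ideal.eq_top_of_isUnit_mem _ ((hy' 1).2 ⟨r, hxy⟩) isUnit_one)
  · intro r hr a _
    have h0 : algebraMap R L r = 0 := congrArg Subtype.val hr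
    rw [hinj (h0.trans (map_zero (algebraMap R L)).symm), mul_zero]
  · intro z a ha
    rw [pow_one] at ha
    obtain ⟨w, -, h⟩ := hsub z z.2 a ha
    refine ⟨w, Subtype.ext ?_⟩
    show algebraMap R L w = a • (z : L)
    rw [Algebra.smul_def, mul_comm, h]
  · intro hS
    obtain ⟨hpr, z, hz⟩ := Alg6.mem_ass_iff.1 hS
    have h := congrArg Subtype.val ((hz x).1 hx)
    have hz0 : z = 0 := Subtype.ext (hxu.mul_right_eq_zero.1 (by
      rw [← Algebra.smul_def]; exact h))
    exact hpr.ne_top (Ideal.eq_top_of_isUnit_mem _ ((hz 1).2 (by simp [hz0])) isUnit_one)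

end Groth.Agent.Kollar
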